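import Groth.Agent.Lib.SqZeroMod.Seq
import Groth.Agent.Lib.SurfInt.Stalk

/-!
# `I ⊗ F → F → (O/I) ⊗ F → 0`
-/

set_option autoImplicit false
set_option linter.style.haveILetI false
universe u

open CategoryTheory CategoryTheory.Limits AlgebraicGeometry Opposite TopologicalSpace
open Groth.Agent.Lib Groth.Agent.Lib.Modules.StalkModule Groth.Agent.Lib.SqZeroMod
open scoped TensorProduct

namespace Groth.Agent.Lib.SqZeroLift

variable {X : Scheme.{u}} (I : X.IdealSheafData)

/-- `F ↦ I ⊗ F`. -/
noncomputable abbrev TI : X.Modules ⥤ X.Modules :=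
  (DCoh.tensorBi (X := X)).obj (_root_.ClSub.idealMod I)

/-- `F ↦ (O/I) ⊗ F`. -/
noncomputable abbrev QO : X.Modules ⥤ X.Modules :=
  (DCoh.tensorBi (X := X)).obj (_root_.ClSub.quotMod I)

/-- `F → (O/I) ⊗ F`. -/
noncomputable def qb (F : X.Modules) : F ⟶ (QO I).obj F :=
  (lu F).inv ≫ ((DCoh.tensorBi (X := X)).flip.obj F).map (_root_.ClSub.toSubscheme I)

/-- The inclusion of the ideal on stalks. -/
noncomputable def aι (x : X) :
    (_root_.ClSub.idealMod I).presheaf.stalk x →ₗ[X.presheaf.stalk x] X.presheaf.stalk x :=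
  (SurfInt.Stalk.oStalk x).toLinearMap ∘ₗ stalkMapₗ (_root_.ClSub.idealModι I) x

theorem aι_germ {W : X.Opens} {x : X} (hx : x ∈ W) (k : Γ(_root_.ClSub.idealMod I, W)) :
    aι I x ((_root_.ClSub.idealMod I).presheaf.germ W x hx k) =
      X.presheaf.germ W x hx ((_root_.ClSub.idealModι I).app W k) := by
  refine (congrArg (SurfInt.Stalk.oStalk x) (stalkMapₗ_germ (_root_.ClSub.idealModι I) hx k)).trans ?_
  exact SurfInt.Stalk.oStalk_germ hx _

theorem aι_injective (x : X) : Function.Injective (aι I x) :=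
  (SurfInt.Stalk.oStalk x).injective.comp
    ((mono_iff_stalkMapₗ_injective (_root_.ClSub.idealModι I)).1
      (ClSub.Quot.idealSeq_shortExact I).mono_f x)

theorem stalkMap_aι (z : I.subscheme) (a : (_root_.ClSub.idealMod I).presheaf.stalk (I.subschemeι z)) :
    (I.subschemeι.stalkMap z).hom (aι I _ a) = 0 := by
  obtain ⟨W, hzW, k, rfl⟩ := TopCat.Presheaf.exists_germ_eq (_root_.ClSub.idealMod I).presheaf a
  rw [aι_germ]
  exact germ_mem_ker I _ ((ClSub.Sections.mem_range_idealModι_app_iff I W _).1 ⟨k, rfl⟩) z hzW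

theorem exists_aι (z : I.subscheme) (c : X.presheaf.stalk (I.subschemeι z))
    (hc : (I.subschemeι.stalkMap z).hom c = 0) : ∃ a, aι I _ a = c := by
  obtain ⟨V, hV, hzV, -⟩ := exists_isAffineOpen_mem_and_subset (U := (⊤ : X.Opens)) (x := I.subschemeι z) trivial
  have hk := ker_stalkMap_le I.subschemeι ⟨V, hV⟩ z hzV hc
  suffices h : (I.subschemeι.ker.ideal ⟨V, hV⟩).map (X.presheaf.germ V (I.subschemeι z) hzV).hom ≤
      LinearMap.range (aι I (I.subschemeι z)) from h hk
  refine Ideal.map_le_iff_le_comap.2 fun t ht => ?_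
  rw [Scheme.Hom.ker_apply, RingHom.mem_ker] at ht
  obtain ⟨k, hk⟩ := (ClSub.Sections.mem_range_idealModι_app_iff I V t).2 ht
  refine ⟨(_root_.ClSub.idealMod I).presheaf.germ V _ hzV k, ?_⟩
  rw [aι_germ]
  exact congrArg _ hk

theorem incl_stalk (F : X.Modules) (x : X) (a : (_root_.ClSub.idealMod I).presheaf.stalk x)
    (v : F.presheaf.stalk x) :
    stalkMapₗ (incl I F) x
      ((DerivedOX.TensorSheaf.tensorStalk x (_root_.ClSub.idealMod I) F).symm (a ⊗ₜ v)) = aι I x a • v :=
  SurfInt.Stalk.act_stalk (_root_.ClSub.idealModι I) F x a v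

theorem TI_map_stalk {F F' : X.Modules} (g : F ⟶ F') (x : X)
    (a : (_root_.ClSub.idealMod I).presheaf.stalk x) (v : F.presheaf.stalk x) :
    stalkMapₗ ((TI I).map g) x
        ((DerivedOX.TensorSheaf.tensorStalk x (_root_.ClSub.idealMod I) F).symm (a ⊗ₜ v)) =
      (DerivedOX.TensorSheaf.tensorStalk x (_root_.ClSub.idealMod I) F').symm (a ⊗ₜ stalkMapₗ g x v) := by
  have h := DerivedOX.TensorSheaf.tensorStalk_natural x (𝟙 (_root_.ClSub.idealMod I)) g
    ((DerivedOX.TensorSheaf.tensorStalk x (_root_.ClSub.idealMod I) F).symm (a ⊗ₜ v))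
  rw [CategoryTheory.Functor.map_id, NatTrans.id_app, Category.id_comp, LinearEquiv.apply_symm_apply,
    TensorProduct.map_tmul, stalkMapₗ_id, LinearMap.id_apply] at h
  exact (LinearEquiv.eq_symm_apply _).2 h

theorem incl_natural {F F' : X.Modules} (g : F ⟶ F') :
    (TI I).map g ≫ incl I F' = incl I F ≫ g := by
  refine hom_ext_stalkMapₗ fun x => LinearMap.ext fun v => ?_
  obtain ⟨w, rfl⟩ :=
    (DerivedOX.TensorSheaf.tensorStalk x (_root_.ClSub.idealMod I) F).symm.surjective v
  simp only [stalkMapₗ_comp, LinearMap.comp_apply]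
  induction w using TensorProduct.induction_on with
  | zero => simp
  | add a b ha hb => simp only [map_add, ha, hb]
  | tmul a v => rw [TI_map_stalk, incl_stalk, incl_stalk, map_smul]

theorem qb_natural {F F' : X.Modules} (g : F ⟶ F') : g ≫ qb I F' = qb I F ≫ (QO I).map g := by
  have h := TensorMod.Basic.leftUnit_natural g
  let Tn := (DCoh.tensorBi (X := X))
  have h' : (Tn.obj (Coh.structureModule X)).map g ≫ (lu F').hom = (lu F).hom ≫ g := by
    refine Eq.trans ?_ h
    congr 1
  have h'' : g ≫ (lu F').inv = (lu F).inv ≫ (Tn.obj (Coh.structureModule X)).map g := by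
    rw [Iso.eq_inv_comp, ← Category.assoc, ← h', Category.assoc, Iso.hom_inv_id, Category.comp_id]
  rw [qb, qb, ← Category.assoc, h'', Category.assoc, Category.assoc]
  exact congrArg ((lu F).inv ≫ ·) ((Tn.map (_root_.ClSub.toSubscheme I)).naturality g)

theorem incl_qb (F : X.Modules) : incl I F ≫ qb I F = 0 := by
  rw [incl, qb, Category.assoc, Iso.hom_inv_id_assoc, ← Functor.map_comp]
  exact (congrArg _ (ClSub.Quot.idealSeq I).zero).trans (Functor.map_zero _ _ _)

theorem qb_exact (F : X.Modules) : (ShortComplex.mk _ _ (incl_qb I F)).Exact := by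
  let T := (DCoh.tensorBi (X := X)).flip.obj F
  haveI : PreservesFiniteColimits T := PreservesColimitsOfSize.preservesFiniteColimits _
  have hS := ClSub.Quot.idealSeq_shortExact I
  haveI := hS.epi_g
  have hT : ((ClSub.Quot.idealSeq I).map T).Exact :=
    hS.exact.map_of_epi_of_preservesCokernel T hS.epi_g inferInstance
  let e : (ClSub.Quot.idealSeq I).map T ≅ ShortComplex.mk _ _ (incl_qb I F) :=
    ShortComplex.isoMk (Iso.refl _) (lu F) (Iso.refl _)
      (by exact (Category.id_comp _).trans rfl)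
      (by
        show (lu F).hom ≫ (lu F).inv ≫ _ = _ ≫ 𝟙 _
        exact (Iso.hom_inv_id_assoc _ _).trans (Category.comp_id _).symm)
  exact (ShortComplex.exact_iff_of_iso e).1 hT

instance epi_qb (F : X.Modules) : Epi (qb I F) := by
  haveI : PreservesFiniteColimits ((DCoh.tensorBi (X := X)).flip.obj F) :=
    PreservesColimitsOfSize.preservesFiniteColimits _
  haveI : Epi (_root_.ClSub.toSubscheme I) := (ClSub.Quot.idealSeq_shortExact I).epi_g
  haveI : Epi (((DCoh.tensorBi (X := X)).flip.obj F).map (_root_.ClSub.toSubscheme I)) :=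
    Functor.map_epi _ _
  exact epi_comp _ _

theorem killed_QO (F : X.Modules) : Killed I.subschemeι ((QO I).obj F) :=
  killed_tensor I.subschemeι (killed_push I.subschemeι (Coh.structureModule I.subscheme)) F

theorem killed_TI (hI : I ^ 2 = ⊥) (F : X.Modules) : Killed I.subschemeι ((TI I).obj F) :=
  killed_tensor I.subschemeι (killed_idealMod I hI) F

end Groth.Agent.Lib.SqZeroLift
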