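import Groth.Agent.Lib.SqZeroLift.Coboundary
import Groth.Agent.H18.Sec.HomIso

/-!
# Auxiliary criteria for square zero lifting
-/

noncomputable section

universe u

open CategoryTheory CategoryTheory.Limits AlgebraicGeometry TopologicalSpace Opposite

namespace Groth.Agent.Lib.SqZeroLift.Criteria

variable {T₀ T : Scheme.{u}}

/-- Square zero on affine opens. -/
theorem sqZero_of_affine (i : T₀ ⟶ T) [IsClosedImmersion i]
    (hsq : ∀ (U : T.affineOpens) (x y : Γ(T, U.1)),
      x ∈ RingHom.ker (i.app U.1).hom → y ∈ RingHom.ker (i.app U.1).hom → x * y = 0) : Thick.SqZero i where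
  isClosedImmersion := inferInstance
  sq := by
    refine Scheme.IdealSheafData.ext (funext fun U => ?_)
    rw [Scheme.IdealSheafData.ideal_mul, Pi.mul_apply, i.ker_apply, Scheme.IdealSheafData.ideal_bot, Pi.bot_apply,
      eq_bot_iff, Ideal.mul_le]
    exact fun x hx y hy => hsq U x y hx hy

theorem subsingleton_HH_of_iso {X : Scheme.{u}} {M N : X.Modules} (e : M ≅ N) {n : ℕ}
    (h : Subsingleton (Coh.HH X M n)) : Subsingleton (Coh.HH X N n) := by
  let F := SheafOfModules.toSheaf X.ringCatSheaf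
  let f := Sheaf.H.map (F.map e.hom) n
  let g := Sheaf.H.map (F.map e.inv) n
  refine ⟨fun a b => ?_⟩
  have hfg : ∀ x, f (g x) = x := fun x => by
    have h1 : F.map e.inv ≫ F.map e.hom = 𝟙 (F.obj N) :=
      ((F.map_comp e.inv e.hom).symm.trans (congrArg F.map e.inv_hom_id)).trans (F.map_id N)
    rw [← Sheaf.H.map_comp_apply, h1, Sheaf.H.map_id_apply]
  rw [← hfg a, ← hfg b, h.elim (g a) (g b)]

end Groth.Agent.Lib.SqZeroLift.Criteria
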