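import Groth.Agent.Lib.SqZeroLift.DerHom
import Groth.Agent.Lib.SqZeroLift.Criteria
import Groth.Agent.Lib.Kaehler.LocFree
import Groth.Agent.Lib.ExtHH.SheafHom
import Groth.Agent.Lib.TensorMod.LocFree
import Groth.Agent.Lib.ModTensor.ModSite

/-!
# Cohomology of the sheaf of homomorphisms out of pulled back differentials
-/

noncomputable section

universe u

open CategoryTheory CategoryTheory.Limits AlgebraicGeometry TopologicalSpace Opposite
open Groth.Agent.Lib

namespace Groth.Agent.Lib.SqZeroLift.ExtVanish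

variable {X : Scheme.{u}}

/-- Sheaf Hom exists. -/
theorem hasSheafHom' (A : X.Modules) : DCoh.HasSheafHom A := by
  haveI : ModSite.HasSheafHom (O := X.sheaf) A := Groth.Agent.Lib.ModTensor.ModSite.hasSheafHom A
  let L : X.Modules ⥤ X.Modules := (DCoh.tensorBi (X := X)).obj A
  let R : X.Modules ⥤ X.Modules := ModSite.sheafHom (O := X.sheaf) A
  exact (show L ⊣ R from
    (ModSite.sheafHomAdj (O := X.sheaf) A).ofNatIsoLeft
      (Groth.Agent.Lib.ModTensor.ModSite.flipObjIso (O := X.sheaf) A)).isLeftAdjoint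

theorem subsingleton_HH_homSh [HasExt.{u} X.Modules] {A : X.Modules} (hA : FlatMod.IsFinLocFree A) (M : X.Modules)
    (n : ℕ) (h : Subsingleton (Abelian.Ext.{u} A M n)) : Subsingleton (Coh.HH X (RefHull.homSh A M) n) := by
  letI : X.Over (Spec (CommRingCat.of Γ(X, ⊤))) := ⟨X.toSpecΓ⟩
  haveI := hasSheafHom' A
  obtain ⟨e⟩ := Groth.Agent.H18.Sec.HomIso.nonempty_iso A M
  exact Criteria.subsingleton_HH_of_iso e
    (ExtHH.SheafHom.extLinearEquiv Γ(X, ⊤) hA M n).symm.toEquiv.subsingleton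

theorem isFinLocFree_gΩ {Y S : Scheme.{u}} (q : Y ⟶ S) [Smooth q] [QuasiSeparated q] (g : X ⟶ Y) :
    FlatMod.IsFinLocFree (DerHom.gΩ q g) :=
  TensorMod.LocFree.isFinLocFree_pullback g
    (Kaehler.LocFree.isFinLocFree_of_smooth (Kaehler.DOmega.isUniversal_dOmega q))

end Groth.Agent.Lib.SqZeroLift.ExtVanish
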