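import Groth.Agent.Lib.ArtinFun.FlatSmooth
import Mathlib.RingTheory.Ideal.Quotient.Operations
import Mathlib.RingTheory.Smooth.Basic

/-!
# A flat algebra with formally smooth reduction along a square zero ideal is formally smooth
-/

noncomputable section

universe u

open scoped TensorProduct

namespace Groth.Agent.Lib.SqZeroLift.AlgFlat

variable {A B : Type u} [CommRing A] [CommRing B] [Algebra A B] [Module.Flat A B] (M : Ideal A)
  [Algebra.FormallySmooth (A ⧸ M) (B ⧸ M.map (algebraMap A B))]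

/-- A square zero surjection onto `B` with kernel killed by `M` has a section. -/
theorem exists_section {E : Type u} [CommRing E] [Algebra A E] (p : E →ₐ[A] B) (hp : Function.Surjective p)
    (hME : ∀ a ∈ M, ∀ e, p e = 0 → a • e = 0) (hsq : ∀ n n', p n = 0 → p n' = 0 → n * n' = 0) :
    ∃ G : B →ₐ[A] E, ∀ b, p (G b) = b := by
  let IE : Ideal E := M.map (algebraMap A E)
  let IB : Ideal B := M.map (algebraMap A B)
  have hcomp : p.toRingHom.comp (algebraMap A E) = algebraMap A B := RingHom.ext p.commutes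
  have hmapE : IE.map p = IB := by
    show (M.map (algebraMap A E)).map p.toRingHom = _
    rw [Ideal.map_map, hcomp]
  have hle : IE ≤ IB.comap p := Ideal.map_le_iff_le_comap.1 hmapE.le
  let pbar : (E ⧸ IE) →ₐ[A ⧸ M] (B ⧸ IB) :=
    { Ideal.quotientMap IB p.toRingHom hle with
      commutes' := fun a => by
        obtain ⟨a, rfl⟩ := Ideal.Quotient.mk_surjective a
        show Ideal.Quotient.mk IB (p (algebraMap A E a)) = Ideal.Quotient.mk IB (algebraMap A B a)
        rw [AlgHom.commutes] }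
  have hpbar : Function.Surjective pbar := fun z => by
    obtain ⟨b, rfl⟩ := Ideal.Quotient.mk_surjective z
    obtain ⟨e, rfl⟩ := hp b
    exact ⟨Ideal.Quotient.mk _ e, rfl⟩
  have hkerbar : ∀ z, pbar z = 0 → ∃ n, p n = 0 ∧ Ideal.Quotient.mk IE n = z := fun z hz => by
    obtain ⟨e, rfl⟩ := Ideal.Quotient.mk_surjective z
    have h1 : p e ∈ IB := Ideal.Quotient.eq_zero_iff_mem.1 hz
    rw [← hmapE] at h1
    obtain ⟨y, hy, hye⟩ := (Ideal.mem_map_iff_of_surjective _ hp).1 h1
    refine ⟨e - y, by rw [map_sub, hye, sub_self], ?_⟩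
    rw [map_sub, Ideal.Quotient.eq_zero_iff_mem.2 hy, sub_zero]
  have hnil : IsNilpotent (RingHom.ker (pbar : (E ⧸ IE) →+* B ⧸ IB)) := by
    refine ⟨2, le_bot_iff.1 ?_⟩
    rw [Submodule.pow_succ, Submodule.pow_one, Ideal.mul_le]
    intro z hz z' hz'
    obtain ⟨n, hn, rfl⟩ := hkerbar z hz
    obtain ⟨n', hn', rfl⟩ := hkerbar z' hz'
    rw [Ideal.mem_bot, ← map_mul, hsq n n' hn hn', map_zero]
  let s := Algebra.FormallySmooth.liftOfSurjective (AlgHom.id (A ⧸ M) (B ⧸ IB)) pbar hpbar hnil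
  have hs : ∀ z, pbar (s z) = z := fun z =>
    AlgHom.congr_fun (Algebra.FormallySmooth.comp_liftOfSurjective (AlgHom.id (A ⧸ M) (B ⧸ IB)) pbar hpbar hnil) z
  have hex : ∀ b, ∃ e, p e = b ∧ Ideal.Quotient.mk IE e = s (Ideal.Quotient.mk IB b) := fun b => by
    obtain ⟨e, rfl⟩ := hp b
    obtain ⟨n, hn, hn'⟩ := hkerbar (s (Ideal.Quotient.mk IB (p e)) - Ideal.Quotient.mk IE e) (by
      rw [map_sub, hs]; exact sub_self _)
    exact ⟨e + n, by rw [map_add, hn, add_zero], by rw [map_add, hn', add_sub_cancel]⟩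
  have huniq : ∀ e e', p e = p e' → Ideal.Quotient.mk IE e = Ideal.Quotient.mk IE e' → e = e' :=
    fun e e' h h' => sub_eq_zero.1 (ArtinFun.eq_zero_of_mem_map_of_flat M p hp hME (Ideal.Quotient.eq.1 h')
      (by rw [map_sub, h, sub_self]))
  choose g hg₁ hg₂ using hex
  refine ⟨{ toFun := g
            map_one' := huniq _ _ (by rw [hg₁, map_one]) (by rw [hg₂]; simp)
            map_mul' := fun a b => huniq _ _ (by rw [hg₁, map_mul, hg₁, hg₁]) (by
              rw [hg₂, map_mul, map_mul, map_mul, hg₂, hg₂])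
            map_zero' := huniq _ _ (by rw [hg₁, map_zero]) (by rw [hg₂]; simp)
            map_add' := fun a b => huniq _ _ (by rw [hg₁, map_add, hg₁, hg₁]) (by
              rw [hg₂, map_add, map_add, map_add, hg₂, hg₂])
            commutes' := fun a => ?_ }, hg₁⟩
  refine huniq _ _ (by rw [hg₁, AlgHom.commutes]) ?_
  rw [hg₂]
  exact s.commutes (Ideal.Quotient.mk M a)

/-- Formal smoothness passes to flat square zero thickenings. -/
theorem formallySmooth (hM : M * M = ⊥) : Algebra.FormallySmooth A B := by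
  refine Algebra.FormallySmooth.of_comp_surjective fun C _ _ N hN φ => ?_
  have hsub : (M.map (algebraMap A C)) * (M.map (algebraMap A C)) = ⊥ := by
    rw [← Ideal.map_mul, hM, Ideal.map_bot]
  -- first lift modulo `M`
  let MC := M.map (algebraMap A C)
  let J := MC * N
  have hJN : J ≤ N := Ideal.mul_le.2 fun a _ b hb => N.mul_mem_left a hb
  have step : ∀ {C₁ C₂ : Type u} [CommRing C₁] [Algebra A C₁] [CommRing C₂] [Algebra A C₂] (π : C₁ →ₐ[A] C₂)
      (_ : Function.Surjective π) (_ : ∀ x y, π x = 0 → π y = 0 → x * y = 0)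
      (_ : ∀ a ∈ M, ∀ x, π x = 0 → a • x = 0) (φ : B →ₐ[A] C₂), ∃ ψ : B →ₐ[A] C₁, π.comp ψ = φ := by
    intro C₁ C₂ _ _ _ _ π hπ hsq' hM' φ
    let E : Subalgebra A (B × C₁) :=
      AlgHom.equalizer (φ.comp (AlgHom.fst A B C₁)) (π.comp (AlgHom.snd A B C₁))
    have hE : ∀ x : B × C₁, x ∈ E ↔ φ x.1 = π x.2 := fun x => Iff.rfl
    let p : E →ₐ[A] B := (AlgHom.fst A B C₁).comp E.val
    have hp : Function.Surjective p := fun b => by
      obtain ⟨c, hc⟩ := hπ (φ b)
      exact ⟨⟨(b, c), (hE _).2 hc.symm⟩, rfl⟩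
    have hker : ∀ e : E, p e = 0 → π e.1.2 = 0 := fun e he => by
      have he' : e.1.1 = 0 := he
      rw [← (hE _).1 e.2, he', map_zero]
    obtain ⟨G, hG⟩ := exists_section M p hp
      (fun a ha e he => by
        refine Subtype.ext (Prod.ext ?_ ?_)
        · show a • e.1.1 = 0
          rw [show e.1.1 = 0 from he, smul_zero]
        · exact hM' a ha _ (hker e he))
      (fun n n' hn hn' => Subtype.ext (Prod.ext
        (by show n.1.1 * n'.1.1 = 0; rw [show n.1.1 = 0 from hn, zero_mul])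
        (hsq' _ _ (hker n hn) (hker n' hn'))))
    refine ⟨((AlgHom.snd A B C₁).comp E.val).comp G, AlgHom.ext fun b => ?_⟩
    exact ((hE _).1 (G b).2).symm.trans (congrArg φ (hG b))
  have hNN : ∀ x ∈ N, ∀ y ∈ N, x * y = 0 := fun x hx y hy => by
    have h := Ideal.mul_mem_mul hx hy
    rw [← pow_two, hN, Ideal.mem_bot] at h
    exact h
  obtain ⟨ψ₁, hψ₁⟩ := step (Ideal.Quotient.factorₐ A hJN) (Ideal.Quotient.factor_surjective hJN)
    (fun x y hx hy => by
      obtain ⟨x, rfl⟩ := Ideal.Quotient.mk_surjective x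
      obtain ⟨y, rfl⟩ := Ideal.Quotient.mk_surjective y
      rw [← map_mul, hNN x (Ideal.Quotient.eq_zero_iff_mem.1 hx) y (Ideal.Quotient.eq_zero_iff_mem.1 hy), map_zero])
    (fun a ha x hx => by
      obtain ⟨x, rfl⟩ := Ideal.Quotient.mk_surjective x
      rw [Algebra.smul_def, ← Ideal.Quotient.mk_algebraMap, ← map_mul, Ideal.Quotient.eq_zero_iff_mem]
      exact Ideal.mul_mem_mul (Ideal.mem_map_of_mem _ ha) (Ideal.Quotient.eq_zero_iff_mem.1 hx))
    φ
  obtain ⟨ψ, hψ⟩ := step (Ideal.Quotient.mkₐ A J) Ideal.Quotient.mk_surjective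
    (fun x y hx hy => hNN x (hJN (Ideal.Quotient.eq_zero_iff_mem.1 hx)) y (hJN (Ideal.Quotient.eq_zero_iff_mem.1 hy)))
    (fun a ha x hx => by
      have h := Ideal.mul_mem_mul (Ideal.mem_map_of_mem (algebraMap A C) ha) (Ideal.Quotient.eq_zero_iff_mem.1 hx)
      rw [← mul_assoc, hsub, Submodule.bot_mul, Ideal.mem_bot] at h
      rwa [Algebra.smul_def])
    ψ₁
  refine ⟨ψ, ?_⟩
  rw [← hψ₁, ← hψ]
  rfl

end Groth.Agent.Lib.SqZeroLift.AlgFlat
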