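import Groth.Agent.Lib.SqZeroLift.Thick
import Groth.Agent.Lib.SqZeroLift.DerHom

/-!
# Lifts of morphisms along square zero thickenings

A lift over an open of `T₀` is given by compatible ring maps `Γ(Y, V) → Γ(T, _)`; two lifts differ by a
family of derivations into the conormal sheaf.
-/

noncomputable section

universe u

open CategoryTheory CategoryTheory.Limits AlgebraicGeometry TopologicalSpace Opposite
open Groth.Agent.Lib.SqZeroLift.Thick Groth.Agent.Lib.SqZeroLift.DerHom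

namespace Groth.Agent.Lib.SqZeroLift.Lift

variable {Y S T₀ T : Scheme.{u}} (p : T ⟶ S) (q : Y ⟶ S) (i : T₀ ⟶ T) [hi : SqZero i] (g : T₀ ⟶ Y)

/-- A lift over `W`. -/
@[ext]
structure L (W : T₀.Opens) where
  /-- the maps on sections -/
  φ : ∀ V : Y.Opens, Γ(Y, V) →+* R i (g ⁻¹ᵁ V ⊓ W)
  res : ∀ {V V' : Y.Opens} (h : V' ≤ V) (a : Γ(Y, V)), φ V' ((Y.presheaf.map (homOfLE h).op).hom a) =
    rres i (inf_le_inf_right W (g.preimage_mono h)) (φ V a)
  red : ∀ (V : Y.Opens) (a : Γ(Y, V)),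
    red i (g ⁻¹ᵁ V ⊓ W) (φ V a) = (g.appLE V (g ⁻¹ᵁ V ⊓ W) inf_le_left).hom a
  base : ∀ (V : S.Opens) (c : Γ(S, V)) (h : img i (g ⁻¹ᵁ q ⁻¹ᵁ V ⊓ W) ≤ p ⁻¹ᵁ V),
    φ (q ⁻¹ᵁ V) ((q.app V).hom c) = (p.appLE V (img i (g ⁻¹ᵁ q ⁻¹ᵁ V ⊓ W)) h).hom c

variable {p q i g}

/-- The open condition for the base. -/
lemma img_le (hg : g ≫ q = i ≫ p) (V : S.Opens) {U : T₀.Opens} (hU : U ≤ g ⁻¹ᵁ q ⁻¹ᵁ V) :
    img i U ≤ p ⁻¹ᵁ V := by
  rw [img_le_iff, ← Scheme.Hom.comp_preimage, ← hg, Scheme.Hom.comp_preimage]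
  exact hU

section

variable {W : T₀.Opens}

/-- The value of the difference. -/
def diffVal (a b : L p q i g W) (V : Y.Opens) (x : Γ(Y, V)) : Γ(Omega.conormal i, g ⁻¹ᵁ V ⊓ W) :=
  (exists_μ i _ (a.φ V x - b.φ V x) (by rw [map_sub, a.red, b.red, sub_self])).choose

lemma μ_diffVal (a b : L p q i g W) (V : Y.Opens) (x : Γ(Y, V)) :
    μ i _ (diffVal a b V x) = a.φ V x - b.φ V x :=
  (exists_μ i _ (a.φ V x - b.φ V x) (by rw [map_sub, a.red, b.red, sub_self])).choose_spec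

/-- Two lifts differ by derivations. -/
def diff (hg : g ≫ q = i ≫ p) (a b : L p q i g W) : DerOn q g (Omega.conormal i) W where
  d V := AddMonoidHom.mk' (diffVal a b V) fun x y => μ_injective i _ <| by
    simp only [map_add, μ_diffVal]; ring
  mul V x y := μ_injective i _ <| by
    show μ i _ (diffVal a b V (x * y)) = μ i _ (_ • diffVal a b V y + _ • diffVal a b V x)
    rw [map_add, μ_diffVal, show (g.appLE V (g ⁻¹ᵁ V ⊓ W) inf_le_left).hom x =
      Thick.red i _ (a.φ V x) from (a.red V x).symm, show (g.appLE V (g ⁻¹ᵁ V ⊓ W) inf_le_left).hom y =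
      Thick.red i _ (b.φ V y) from (b.red V y).symm, μ_smul, μ_smul, μ_diffVal, μ_diffVal, map_mul, map_mul]
    ring
  res {V V'} h x := μ_injective i _ <| by
    show μ i _ (diffVal a b V' _) = μ i _ ((Omega.conormal i).presheaf.map _ (diffVal a b V x))
    rw [μ_res, μ_diffVal, μ_diffVal, a.res h, b.res h, map_sub]
  base V c := μ_injective i _ <| by
    show μ i _ (diffVal a b _ _) = _
    rw [μ_diffVal, a.base V c (img_le hg V inf_le_left), b.base V c (img_le hg V inf_le_left), sub_self, map_zero]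

lemma μ_diff (hg : g ≫ q = i ≫ p) (a b : L p q i g W) (V : Y.Opens) (x : Γ(Y, V)) :
    μ i _ ((diff hg a b).d V x) = a.φ V x - b.φ V x := μ_diffVal a b V x

lemma der_one {M : T₀.Modules} (δ : DerOn q g M W) (V : Y.Opens) : δ.d V 1 = 0 := by
  have h := δ.mul V 1 1
  simp only [mul_one, map_one, one_smul] at h
  exact left_eq_add.1 h

/-- Move a lift by derivations. -/
def add (a : L p q i g W) (δ : DerOn q g (Omega.conormal i) W) : L p q i g W where
  φ V :=
    { toFun := fun x => a.φ V x + μ i _ (δ.d V x)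
      map_one' := by rw [map_one, der_one, map_zero, add_zero]
      map_mul' := fun x y => by
        rw [map_mul, δ.mul, map_add, show (g.appLE V (g ⁻¹ᵁ V ⊓ W) inf_le_left).hom x =
          Thick.red i _ (a.φ V x) from (a.red V x).symm, show (g.appLE V (g ⁻¹ᵁ V ⊓ W) inf_le_left).hom y =
          Thick.red i _ (a.φ V y) from (a.red V y).symm, μ_smul, μ_smul]
        linear_combination - μ_mul_μ i _ (δ.d V x) (δ.d V y)
      map_zero' := by rw [map_zero, map_zero, map_zero, add_zero]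
      map_add' := fun x y => by rw [map_add, map_add, map_add]; ring }
  res {V V'} h x := by
    show a.φ V' _ + μ i _ (δ.d V' _) = rres i _ (a.φ V x + μ i _ (δ.d V x))
    rw [map_add, a.res h, δ.res h, μ_res]
  red V x := by
    show Thick.red i _ (a.φ V x + μ i _ (δ.d V x)) = _
    rw [map_add, red_μ, add_zero, a.red]
  base V c h := by
    show a.φ _ _ + μ i _ (δ.d _ _) = _
    rw [δ.base, map_zero, add_zero, a.base V c h]

lemma add_φ (a : L p q i g W) (δ : DerOn q g (Omega.conormal i) W) (V : Y.Opens) (x : Γ(Y, V)) :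
    (add a δ).φ V x = a.φ V x + μ i _ (δ.d V x) := rfl

/-- Restriction of derivations. -/
def derRestrict {M : T₀.Modules} (δ : DerOn q g M W) {W' : T₀.Opens} (h : W' ≤ W) : DerOn q g M W' where
  d V := (M.presheaf.map (homOfLE (inf_le_inf_left (g ⁻¹ᵁ V) h)).op).hom.comp (δ.d V)
  mul V x y := by
    show M.presheaf.map _ (δ.d V (x * y)) = _ • M.presheaf.map _ (δ.d V y) + _ • M.presheaf.map _ (δ.d V x)
    rw [δ.mul, map_add, Scheme.Modules.map_smul, Scheme.Modules.map_smul]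
    simp only [← CommRingCat.comp_apply, Scheme.Hom.appLE_map]
  res {V V'} h' x := by
    show M.presheaf.map _ (δ.d V' _) = M.presheaf.map _ (M.presheaf.map _ (δ.d V x))
    rw [δ.res h', res_res, res_res]
  base V c := by
    show M.presheaf.map _ (δ.d _ _) = 0
    rw [δ.base, map_zero]

/-- Restriction of lifts. -/
def restrict (hg : g ≫ q = i ≫ p) (a : L p q i g W) {W' : T₀.Opens} (h : W' ≤ W) : L p q i g W' where
  φ V := (rres i (inf_le_inf_left (g ⁻¹ᵁ V) h)).comp (a.φ V)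
  res {V V'} h' x := by
    show rres i _ (a.φ V' _) = rres i _ (rres i _ (a.φ V x))
    rw [a.res h', rres_rres, rres_rres]
  red V x := by
    show Thick.red i _ (rres i _ (a.φ V x)) = _
    rw [red_rres, a.red, ← CommRingCat.comp_apply, Scheme.Hom.appLE_map]
  base V c hle := by
    show rres i _ (a.φ _ _) = _
    rw [a.base V c (img_le hg V inf_le_left)]
    simp only [rres, ← CommRingCat.comp_apply, Scheme.Hom.appLE_map]

end

/-- Separation for functions on a thickened open. -/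
lemma eq_of_cover {ι : Type u} (U : ι → T₀.Opens) (O : T₀.Opens) (hle : ∀ j, U j ≤ O) (hcov : O ≤ iSup U)
    (a b : R i O) (h : ∀ j, rres i (hle j) a = rres i (hle j) b) : a = b :=
  T.sheaf.eq_of_locally_eq' (fun j => img i (U j)) (img i O) (fun j => homOfLE (img_mono i (hle j)))
    (fun x hx => by
      obtain ⟨j, hj⟩ := Opens.mem_iSup.1 (hcov hx)
      exact Opens.mem_iSup.2 ⟨j, hj⟩) a b h

/-- Gluing lifts. -/
theorem exists_glue (hg : g ≫ q = i ≫ p) {ι : Type u} (U : ι → T₀.Opens) {W : T₀.Opens} (hle : ∀ j, U j ≤ W) (hcov : W ≤ iSup U)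
    (a : ∀ j, L p q i g (U j))
    (h : ∀ j k, restrict hg (a j) (inf_le_left : U j ⊓ U k ≤ U j) = restrict hg (a k) inf_le_right) :
    ∃ b : L p q i g W, ∀ j, restrict hg b (hle j) = a j := by
  classical
  have glue : ∀ (V : Y.Opens) (x : Γ(Y, V)), ∃ r : R i (g ⁻¹ᵁ V ⊓ W),
      ∀ j, rres i (inf_le_inf_left (g ⁻¹ᵁ V) (hle j)) r = (a j).φ V x := by
    intro V x
    obtain ⟨r, hr, -⟩ := T.sheaf.existsUnique_gluing' (fun j => img i (g ⁻¹ᵁ V ⊓ U j)) (img i (g ⁻¹ᵁ V ⊓ W))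
      (fun j => homOfLE (img_mono i (inf_le_inf_left (g ⁻¹ᵁ V) (hle j))))
      (fun y hy => by
        obtain ⟨j, hj⟩ := Opens.mem_iSup.1 (hcov hy.2)
        exact Opens.mem_iSup.2 ⟨j, ⟨hy.1, hj⟩⟩)
      (fun j => (a j).φ V x) (fun j k => by
        have e := congrArg (fun c : L p q i g (U j ⊓ U k) => c.φ V x) (h j k)
        have hle' : img i (g ⁻¹ᵁ V ⊓ U j) ⊓ img i (g ⁻¹ᵁ V ⊓ U k) ≤ img i (g ⁻¹ᵁ V ⊓ (U j ⊓ U k)) :=
          fun y hy => ⟨hy.1.1, hy.1.2, hy.2.2⟩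
        have e' := congrArg (T.presheaf.map (homOfLE hle').op).hom e
        simp only [restrict, RingHom.comp_apply, rres, ← CommRingCat.comp_apply, ← Functor.map_comp] at e'
        exact e')
    exact ⟨r, hr⟩
  choose f hf using glue
  have ext' : ∀ (V : Y.Opens) (u v : R i (g ⁻¹ᵁ V ⊓ W)),
      (∀ j, rres i (inf_le_inf_left (g ⁻¹ᵁ V) (hle j)) u = rres i (inf_le_inf_left (g ⁻¹ᵁ V) (hle j)) v) → u = v :=
    fun V => eq_of_cover (fun j => g ⁻¹ᵁ V ⊓ U j) _ (fun j => inf_le_inf_left _ (hle j)) fun y hy => by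
      obtain ⟨j, hj⟩ := Opens.mem_iSup.1 (hcov hy.2)
      exact Opens.mem_iSup.2 ⟨j, ⟨hy.1, hj⟩⟩
  let b : L p q i g W :=
    { φ := fun V =>
        { toFun := f V
          map_one' := ext' V _ _ fun j => by rw [hf, map_one, map_one]
          map_mul' := fun x y => ext' V _ _ fun j => by rw [hf, map_mul, map_mul, hf, hf]
          map_zero' := ext' V _ _ fun j => by rw [hf, map_zero, map_zero]
          map_add' := fun x y => ext' V _ _ fun j => by rw [hf, map_add, map_add, hf, hf] }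
      res := fun {V V'} h' x => ext' V' _ _ fun j => by
        show rres i _ (f V' _) = rres i _ (rres i _ (f V x))
        rw [hf, (a j).res h', ← hf V x j, rres_rres, rres_rres]
      red := fun V x => T₀.sheaf.eq_of_locally_eq' (fun j => g ⁻¹ᵁ V ⊓ U j) _
        (fun j => homOfLE (inf_le_inf_left _ (hle j))) (fun y hy => by
          obtain ⟨j, hj⟩ := Opens.mem_iSup.1 (hcov hy.2)
          exact Opens.mem_iSup.2 ⟨j, ⟨hy.1, hj⟩⟩) _ _ fun j => by
        show (T₀.presheaf.map _).hom (Thick.red i _ (f V x)) = (T₀.presheaf.map _).hom _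
        rw [← red_rres, hf, (a j).red]
        simp only [← CommRingCat.comp_apply, Scheme.Hom.appLE_map]
      base := fun V c h' => ext' _ _ _ fun j => by
        show rres i _ (f _ _) = _
        rw [hf, (a j).base V c (img_le hg V inf_le_left)]
        simp only [rres, ← CommRingCat.comp_apply, Scheme.Hom.appLE_map] }
  exact ⟨b, fun j => L.ext (funext fun V => RingHom.ext fun x => hf V x j)⟩

/-- The lift of a global morphism. -/
def ofHom (h : T ⟶ Y) (hi : i ≫ h = g) (hq : h ≫ q = p) : L p q i g ⊤ where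
  φ V := (h.appLE V (img i (g ⁻¹ᵁ V ⊓ ⊤)) (by
    rw [img_le_iff, ← Scheme.Hom.comp_preimage, hi]; exact inf_le_left)).hom
  res {V V'} h' x := by
    simp only [rres, ← CommRingCat.comp_apply, Scheme.Hom.map_appLE, Scheme.Hom.appLE_map]
  red V x := by
    subst hi
    simp only [Thick.red, ← CommRingCat.comp_apply, Scheme.Hom.appLE_comp_appLE]
  base V c h' := by
    subst hq
    simp only [← CommRingCat.comp_apply, Scheme.Hom.app_eq_appLE, Scheme.Hom.appLE_comp_appLE]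

theorem hom_ext (h h' : T ⟶ Y) (hh : i ≫ h = g) (hh' : i ≫ h' = g) (hq : h ≫ q = p) (hq' : h' ≫ q = p)
    (e : ∀ V x, (ofHom h hh hq).φ V x = (ofHom h' hh' hq').φ V x) : h = h' := by
  have hb : h.base = h'.base := by
    ext x
    obtain ⟨y, rfl⟩ := Thick.surjective i x
    show (i ≫ h) y = (i ≫ h') y
    rw [hh, hh']
  refine Scheme.Hom.ext hb fun V => ?_
  ext x
  have hle : h' ⁻¹ᵁ V ≤ img i (g ⁻¹ᵁ V ⊓ ⊤) := fun z hz => by
    obtain ⟨y, rfl⟩ := Thick.surjective i z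
    refine (apply_mem_img i).2 ⟨?_, trivial⟩
    show g y ∈ V
    rw [← hh']
    exact hz
  have e' := congrArg (T.presheaf.map (homOfLE hle).op).hom (e V x)
  simp only [ofHom, ← CommRingCat.comp_apply, Scheme.Hom.appLE_map] at e'
  rw [← Scheme.Hom.appLE_eq_app (f := h')] 
  exact e'

lemma appLE_hom_congr {A B : Scheme.{u}} {f f' : A ⟶ B} (e : f = f') (U : B.Opens) (V : A.Opens)
    (h : V ≤ f ⁻¹ᵁ U) : f.appLE U V h = f'.appLE U V (e ▸ h) := by
  subst e; rfl

omit hi in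
lemma bijective_ι_app (O A : T.Opens) (h : A ≤ O) :
    Function.Bijective (O.ι.appLE A (O.ι ⁻¹ᵁ A) le_rfl).hom := by
  haveI : IsIso (O.ι.appLE A (O.ι ⁻¹ᵁ A) le_rfl) := by
    rw [Scheme.Hom.appLE_eq_app]
    exact O.ι.isIso_app A (by rwa [Scheme.Opens.opensRange_ι])
  exact ConcreteCategory.bijective_of_isIso _

lemma opens_le {O : T.Opens} {W : T₀.Opens} (hW : W ≤ i ⁻¹ᵁ O) (Z : T₀.Opens) :
    img i (Z ⊓ W) ≤ O :=
  (img_le_iff i).2 (inf_le_right.trans hW)

/-- The lift of a morphism on an open subscheme. -/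
def ofMor (O : T.Opens) (h : (O : Scheme.{u}) ⟶ Y)
    (hi : (i ∣_ O) ≫ h = (i ⁻¹ᵁ O).ι ≫ g) (hq : h ≫ q = O.ι ≫ p) : L p q i g (i ⁻¹ᵁ O) :=
  let A : Y.Opens → T.Opens := fun V => img i (g ⁻¹ᵁ V ⊓ i ⁻¹ᵁ O)
  let κ : ∀ V, R i (g ⁻¹ᵁ V ⊓ i ⁻¹ᵁ O) ≃+* Γ((O : Scheme.{u}), O.ι ⁻¹ᵁ A V) := fun V =>
    RingEquiv.ofBijective (O.ι.appLE (A V) (O.ι ⁻¹ᵁ A V) le_rfl).hom (bijective_ι_app O (A V) (opens_le le_rfl _))
  have hle : ∀ V : Y.Opens, O.ι ⁻¹ᵁ A V ≤ h ⁻¹ᵁ V := fun V z hz => by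
    obtain ⟨y, hy⟩ := Thick.surjective i z.1
    have hy' : y ∈ g ⁻¹ᵁ V ⊓ i ⁻¹ᵁ O := (apply_mem_img i).1 (by rw [hy]; exact hz)
    have e : h ((i ∣_ O) ⟨y, hy'.2⟩) = g y := congr($(hi).base ⟨y, hy'.2⟩)
    have e2 : (i ∣_ O) ⟨y, hy'.2⟩ = z := Subtype.ext ((morphismRestrict_base_coe i O _).trans hy)
    show h z ∈ V
    rw [← e2, e]
    exact hy'.1
  let φ : ∀ V, Γ(Y, V) →+* R i (g ⁻¹ᵁ V ⊓ i ⁻¹ᵁ O) := fun V =>
    ((κ V).symm : _ →+* _).comp (h.appLE V (O.ι ⁻¹ᵁ A V) (hle V)).hom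
  have hκ : ∀ V x, (O.ι.appLE (A V) (O.ι ⁻¹ᵁ A V) le_rfl).hom (φ V x) =
      (h.appLE V (O.ι ⁻¹ᵁ A V) (hle V)).hom x := fun V x => (κ V).apply_symm_apply _
  { φ := φ
    res := fun {V V'} h' x => by
      apply (bijective_ι_app O (A V') (opens_le le_rfl _)).1
      rw [hκ]
      have hA : A V' ≤ A V := img_mono i (inf_le_inf_right _ (g.preimage_mono h'))
      have e := congrArg ((O : Scheme.{u}).presheaf.map (homOfLE (O.ι.preimage_mono hA)).op).hom (hκ V x)
      simp only [rres, ← CommRingCat.comp_apply, Scheme.Hom.map_appLE, Scheme.Hom.appLE_map] at e ⊢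
      exact e.symm.trans (congrArg (fun f => f.hom (φ V x)) (O.ι.map_appLE (le_rfl : O.ι ⁻¹ᵁ A V' ≤ _) (homOfLE hA).op)).symm
    red := fun V x => by
      let Z := g ⁻¹ᵁ V ⊓ i ⁻¹ᵁ O
      let ι₀ := (i ⁻¹ᵁ O).ι
      have hb : Function.Injective (ι₀.appLE Z (ι₀ ⁻¹ᵁ Z) le_rfl).hom := by
        haveI : IsIso (ι₀.appLE Z (ι₀ ⁻¹ᵁ Z) le_rfl) := by
          rw [Scheme.Hom.appLE_eq_app]
          exact ι₀.isIso_app Z (by rw [Scheme.Opens.opensRange_ι]; exact inf_le_right)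
        exact (ConcreteCategory.bijective_of_isIso _).1
      apply hb
      have h1 : ι₀ ⁻¹ᵁ Z ≤ (i ∣_ O) ⁻¹ᵁ (O.ι ⁻¹ᵁ A V) := by
        rw [← Scheme.Hom.comp_preimage, morphismRestrict_ι, Scheme.Hom.comp_preimage, preimage_img]
      have e := congrArg ((i ∣_ O).appLE _ _ h1).hom (hκ V x)
      simp only [← CommRingCat.comp_apply, Scheme.Hom.appLE_comp_appLE] at e
      rw [appLE_hom_congr (morphismRestrict_ι i O), appLE_hom_congr hi] at e
      exact (congrArg (fun f => f.hom (φ V x)) (Scheme.Hom.appLE_comp_appLE ι₀ i (A V) Z (ι₀ ⁻¹ᵁ Z) (preimage_img i Z).ge le_rfl)).trans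
        (e.trans (congrArg (fun f => f.hom x) (Scheme.Hom.appLE_comp_appLE ι₀ g V Z (ι₀ ⁻¹ᵁ Z) inf_le_left le_rfl)).symm)
    base := fun V c h' => by
      apply (bijective_ι_app O _ (opens_le le_rfl _)).1
      rw [hκ]
      simp only [← CommRingCat.comp_apply, Scheme.Hom.app_eq_appLE, Scheme.Hom.appLE_comp_appLE]
      rw [appLE_hom_congr hq] }

/-- The morphism of a global lift. -/
def toMor (a : L p q i g ⊤) : T ⟶ Y :=
  let b : T.carrier ⟶ Y.carrier :=
    TopCat.ofHom ⟨fun x => g ((homeo i).symm x), g.continuous.comp (homeo i).symm.continuous⟩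
  let O : Y.Opens → T.Opens := fun V => (Opens.map b).obj V
  have le : ∀ V : Y.Opens, O V ≤ img i (g ⁻¹ᵁ V ⊓ ⊤) := fun V x hx => ⟨hx, trivial⟩
  let c : Y.presheaf ⟶ (TopCat.Presheaf.pushforward _ b).obj T.presheaf :=
    { app := fun V => CommRingCat.ofHom ((T.presheaf.map (homOfLE (le V.unop)).op).hom.comp (a.φ V.unop))
      naturality := fun V V' f => by
        ext x
        show (T.presheaf.map (homOfLE (le V'.unop)).op).hom (a.φ V'.unop ((Y.presheaf.map f).hom x)) =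
          (T.presheaf.map ((Opens.map b).map f.unop).op).hom ((T.presheaf.map (homOfLE (le V.unop)).op).hom
            (a.φ V.unop x))
        rw [show f = (homOfLE f.unop.le).op from Subsingleton.elim _ _, a.res]
        simp only [rres, ← CommRingCat.comp_apply, ← Functor.map_comp]
        rfl }
  ⟨⟨⟨b, c⟩, fun x => by
    refine ⟨fun v hv => ?_⟩
    obtain ⟨V, hV, s, rfl⟩ := Y.presheaf.exists_germ_eq v
    erw [PresheafedSpace.stalkMap_germ_apply] at hv
    obtain ⟨y, rfl⟩ := Thick.surjective i x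
    have hy : g y ∈ V := by
      have hV' : g ((homeo i).symm (i y)) ∈ V := hV
      rwa [Thick.symm_apply] at hV'
    have h2 : i y ∈ T.basicOpen ((T.presheaf.map (homOfLE (le V)).op).hom (a.φ V s)) :=
      (T.mem_basicOpen _ _ _).2 hv
    rw [Scheme.basicOpen_res] at h2
    have h3 : y ∈ i ⁻¹ᵁ T.basicOpen (a.φ V s) := h2.2
    have h4 : y ∈ T₀.basicOpen (Thick.red i _ (a.φ V s)) := by
      rw [Thick.red, Scheme.basicOpen_appLE]
      exact ⟨⟨hy, trivial⟩, h3⟩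
    rw [a.red, Scheme.basicOpen_appLE] at h4
    have h5 : g ((homeo i).symm (i y)) ∈ Y.basicOpen s := by
      rw [Thick.symm_apply]
      exact h4.2
    exact (Y.mem_basicOpen _ _ hV).1 h5⟩⟩

lemma toMor_apply (a : L p q i g ⊤) (x : T) : toMor a x = g ((homeo i).symm x) := rfl

lemma toMor_app (a : L p q i g ⊤) (V : Y.Opens) (h : (toMor a) ⁻¹ᵁ V ≤ img i (g ⁻¹ᵁ V ⊓ ⊤)) (x : Γ(Y, V)) :
    ((toMor a).app V).hom x = (T.presheaf.map (homOfLE h).op).hom (a.φ V x) := rfl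

theorem comp_toMor (a : L p q i g ⊤) : i ≫ toMor a = g := by
  have hb : (i ≫ toMor a).base = g.base := by
    ext y
    exact congrArg g (Thick.symm_apply i y)
  refine Scheme.Hom.ext hb fun V => ?_
  ext x
  have h1 : g ⁻¹ᵁ V ≤ g ⁻¹ᵁ V ⊓ ⊤ := fun z hz => ⟨hz, trivial⟩
  have e := congrArg (T₀.presheaf.map (homOfLE h1).op).hom (a.red V x)
  simp only [← CommRingCat.comp_apply, Scheme.Hom.appLE_map, Thick.red, Scheme.Hom.appLE_eq_app] at e
  refine Eq.trans ?_ e
  have hle : (toMor a) ⁻¹ᵁ V ≤ img i (g ⁻¹ᵁ V ⊓ ⊤) := fun x hx => ⟨hx, trivial⟩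
  show (T₀.presheaf.map _).hom ((i.app _).hom (((toMor a).app V).hom x)) = _
  rw [toMor_app a V hle]
  simp only [← CommRingCat.comp_apply, Scheme.Hom.app_eq_appLE, Scheme.Hom.appLE_map, Scheme.Hom.map_appLE,
    Category.assoc]

theorem toMor_comp (hg : g ≫ q = i ≫ p) (a : L p q i g ⊤) : toMor a ≫ q = p := by
  have hb : (toMor a ≫ q).base = p.base := by
    ext x
    obtain ⟨y, rfl⟩ := Thick.surjective i x
    show q (g ((homeo i).symm (i y))) = p (i y)
    rw [Thick.symm_apply]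
    exact congr($(hg).base y)
  refine Scheme.Hom.ext hb fun V => ?_
  ext c
  have hle : (toMor a) ⁻¹ᵁ (q ⁻¹ᵁ V) ≤ img i (g ⁻¹ᵁ q ⁻¹ᵁ V ⊓ ⊤) := fun x hx => ⟨hx, trivial⟩
  show (T.presheaf.map _).hom (((toMor a).app _).hom ((q.app V).hom c)) = _
  rw [toMor_app a _ hle, a.base V c (img_le hg V inf_le_left)]
  simp only [← CommRingCat.comp_apply, Scheme.Hom.appLE_map, Scheme.Hom.app_eq_appLE]

end Groth.Agent.Lib.SqZeroLift.Lift
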