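import Groth.Agent.Lib.ZarCoh.PushKilled
import Groth.Agent.Lib.ClSub.Sections
import Groth.Prelude.Def_Omega2
import Groth.Prelude.Def_Omega3
import Mathlib.AlgebraicGeometry.Morphisms.ClosedImmersion

/-!
# Square zero thickenings

For a closed immersion `i : T₀ ⟶ T` with square zero ideal, the sections of the conormal sheaf are
the elements of the structure sheaf of `T` killed by restriction to `T₀`.
-/

noncomputable section

universe u

open CategoryTheory CategoryTheory.Limits AlgebraicGeometry TopologicalSpace Opposite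

namespace Groth.Agent.Lib.SqZeroLift.Thick

variable {T₀ T : Scheme.{u}}

/-- A closed immersion with square zero ideal. -/
class SqZero (i : T₀ ⟶ T) : Prop where
  isClosedImmersion : IsClosedImmersion i
  sq : i.ker * i.ker = ⊥

variable (i : T₀ ⟶ T) [hi : SqZero i]

instance (priority := 900) isClosedImmersion_of_sqZero : IsClosedImmersion i := hi.isClosedImmersion

theorem surjective : Function.Surjective i := by
  have h : (i.ker * i.ker).support = (⊥ : T.IdealSheafData).support := by rw [hi.sq]
  rw [Scheme.IdealSheafData.support_mul, sup_idem, Scheme.IdealSheafData.support_bot] at h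
  have h' : closure (Set.range i) = Set.univ := by
    rw [← Scheme.Hom.support_ker, h]
    rfl
  rw [i.isClosedEmbedding.isClosed_range.closure_eq] at h'
  exact Set.range_eq_univ.1 h'

/-- The underlying homeomorphism. -/
def homeo : T₀ ≃ₜ T := i.isClosedEmbedding.isEmbedding.toHomeomorphOfSurjective (surjective i)

lemma homeo_apply (y : T₀) : homeo i y = i y := rfl

lemma apply_symm (x : T) : i ((homeo i).symm x) = x := (homeo i).apply_symm_apply x

lemma symm_apply (y : T₀) : (homeo i).symm (i y) = y := (homeo i).symm_apply_apply y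

/-- The open of `T` with the same points. -/
def img (U : T₀.Opens) : T.Opens := ⟨(homeo i).symm ⁻¹' U, U.isOpen.preimage (homeo i).symm.continuous⟩

lemma mem_img {U : T₀.Opens} {x : T} : x ∈ img i U ↔ (homeo i).symm x ∈ U := Iff.rfl

lemma apply_mem_img {U : T₀.Opens} {y : T₀} : i y ∈ img i U ↔ y ∈ U := by
  rw [mem_img, symm_apply]

lemma preimage_img (U : T₀.Opens) : i ⁻¹ᵁ img i U = U := by
  ext y
  exact apply_mem_img i

lemma img_preimage (V : T.Opens) : img i (i ⁻¹ᵁ V) = V := by
  ext x
  show i ((homeo i).symm x) ∈ V ↔ _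
  rw [apply_symm]
  rfl

lemma img_mono {U V : T₀.Opens} (h : U ≤ V) : img i U ≤ img i V := fun _ hx => h hx

lemma img_le_iff {U : T₀.Opens} {V : T.Opens} : img i U ≤ V ↔ U ≤ i ⁻¹ᵁ V :=
  ⟨fun h y hy => h ((apply_mem_img i).2 hy), fun h x hx => by simpa [apply_symm] using h hx⟩

/-- Functions on the thickened open. -/
abbrev R (U : T₀.Opens) : CommRingCat.{u} := Γ(T, img i U)

/-- Restriction to the closed subscheme. -/
def red (U : T₀.Opens) : R i U →+* Γ(T₀, U) := (i.appLE (img i U) U (preimage_img i U).ge).hom

/-- Restriction to a smaller open. -/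
def rres {U V : T₀.Opens} (h : V ≤ U) : R i U →+* R i V := (T.presheaf.map (homOfLE (img_mono i h)).op).hom

lemma rres_rres {U V W : T₀.Opens} (h : V ≤ U) (h' : W ≤ V) (r : R i U) :
    rres i h' (rres i h r) = rres i (h'.trans h) r := by
  simp only [rres, ← CommRingCat.comp_apply, ← Functor.map_comp]
  rfl

lemma rres_self {U : T₀.Opens} (r : R i U) : rres i (le_refl U) r = r := by
  simp [rres]

lemma red_rres {U V : T₀.Opens} (h : V ≤ U) (r : R i U) :
    red i V (rres i h r) = (T₀.presheaf.map (homOfLE h).op).hom (red i U r) := by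
  simp only [red, rres, ← CommRingCat.comp_apply, Scheme.Hom.map_appLE, Scheme.Hom.appLE_map]

lemma res_res {Z : Scheme.{u}} (M : Z.Modules) {A B C : Z.Opens} (h₁ : B ≤ A) (h₂ : C ≤ B) (x : Γ(M, A)) :
    M.presheaf.map (homOfLE h₂).op (M.presheaf.map (homOfLE h₁).op x) =
      M.presheaf.map (homOfLE (h₂.trans h₁)).op x := by
  rw [← CategoryTheory.comp_apply, ← Functor.map_comp]
  rfl

lemma res_self {Z : Scheme.{u}} (M : Z.Modules) {A : Z.Opens} (h : A ≤ A) (x : Γ(M, A)) :
    M.presheaf.map (homOfLE h).op x = x := by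
  rw [Subsingleton.elim (homOfLE h).op (𝟙 _), CategoryTheory.Functor.map_id]
  rfl

/-- The ideal of the thickening, as a module on `T`. -/
abbrev ideal : T.Modules := _root_.ClSub.idealMod i.ker

theorem killed : _root_.ClSub.KilledByIdeal i.ker (ideal i) := by
  intro U a ha m
  apply ClSub.Sections.idealModι_app_injective i.ker U.1
  refine Eq.trans ?_ (map_zero ((_root_.ClSub.idealModι i.ker).app U.1).hom).symm
  refine (Scheme.Modules.Hom.app_smul (_root_.ClSub.idealModι i.ker) a m).trans ?_
  have hm : (_root_.ClSub.idealModι i.ker).app U.1 m ∈ i.ker.ideal U :=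
    (ClSub.Sections.mem_range_idealModι_app_affine_iff i.ker U _).1 ⟨m, rfl⟩
  let m' : Γ(T, U.1) := (_root_.ClSub.idealModι i.ker).app U.1 m
  show a * m' = 0
  have h2 : a * m' ∈ (i.ker * i.ker).ideal U := by
    rw [Scheme.IdealSheafData.ideal_mul]
    exact Ideal.mul_mem_mul ha hm
  rw [hi.sq] at h2
  simpa using h2

/-- The unit at the ideal. -/
abbrev unitHom : ideal i ⟶ (Scheme.Modules.pushforward i).obj (Omega.conormal i) :=
  (Scheme.Modules.pullbackPushforwardAdjunction i).unit.app (ideal i)

instance isIso_unitHom : IsIso (unitHom i) := ZarCoh.PushKilled.isIso_unit i (ideal i) (killed i)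

/-- The inclusion of a section of the ideal. -/
def incl (V : T.Opens) : Γ((Scheme.Modules.pushforward i).obj (Omega.conormal i), V) →+ Γ(T, V) :=
  (_root_.OmegaSh.idealSect i.ker V).comp ((inv (unitHom i)).app V).hom

/-- Sections of the conormal sheaf, as functions on the thickened open. -/
def μ (U : T₀.Opens) : Γ(Omega.conormal i, U) →+ R i U :=
  (incl i (img i U)).comp ((Omega.conormal i).presheaf.map (homOfLE (preimage_img i U).le).op).hom

lemma incl_injective (V : T.Opens) : Function.Injective (incl i V) := by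
  intro a b h
  have h1 : (inv (unitHom i)).app V a = (inv (unitHom i)).app V b :=
    ClSub.Sections.idealModι_app_injective i.ker V h
  have h3 : ∀ z, (unitHom i).app V ((inv (unitHom i)).app V z) = z := fun z => by
    exact congr($(IsIso.inv_hom_id (unitHom i)).app V z)
  rw [← h3 a, ← h3 b, h1]

lemma incl_smul (V : T.Opens) (r : Γ(T, V))
    (m : Γ((Scheme.Modules.pushforward i).obj (Omega.conormal i), V)) :
    incl i V (r • m) = r * incl i V m := by
  show _root_.OmegaSh.idealSect i.ker V ((inv (unitHom i)).app V (r • m)) = _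
  rw [Scheme.Modules.Hom.app_smul]
  exact Scheme.Modules.Hom.app_smul (_root_.ClSub.idealModι i.ker) r _

lemma incl_res {V V' : T.Opens} (h : V' ≤ V)
    (m : Γ((Scheme.Modules.pushforward i).obj (Omega.conormal i), V)) :
    incl i V' ((Omega.conormal i).presheaf.map (homOfLE (i.preimage_mono h)).op m) =
      (T.presheaf.map (homOfLE h).op).hom (incl i V m) := by
  show _root_.OmegaSh.idealSect i.ker V' ((inv (unitHom i)).app V'
    (((Scheme.Modules.pushforward i).obj (Omega.conormal i)).presheaf.map (homOfLE h).op m)) = _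
  erw [congr($((Scheme.Modules.Hom.mapPresheaf (inv (unitHom i))).naturality (homOfLE h).op) m)]
  erw [congr($((Scheme.Modules.Hom.mapPresheaf (_root_.ClSub.idealModι i.ker)).naturality (homOfLE h).op) _)]
  rfl

theorem μ_injective (U : T₀.Opens) : Function.Injective (μ i U) := fun a b h =>
  (ConcreteCategory.bijective_of_isIso
    ((Omega.conormal i).presheaf.map (eqToHom (preimage_img i U)).op)).1 (incl_injective i _ h)

theorem μ_smul (U : T₀.Opens) (r : R i U) (m : Γ(Omega.conormal i, U)) :
    μ i U (red i U r • m) = r * μ i U m := by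
  show incl i _ ((Omega.conormal i).presheaf.map _ (red i U r • m)) = r * incl i _ _
  rw [← incl_smul, Scheme.Modules.map_smul]
  refine congrArg (incl i (img i U)) ?_
  have e : (T₀.presheaf.map (homOfLE (preimage_img i U).le).op).hom (red i U r) = (i.app (img i U)).hom r := by
    show ((i.appLE _ _ _) ≫ T₀.presheaf.map _).hom r = _
    rw [Scheme.Hom.appLE_map, ← Scheme.Hom.appLE_eq_app]
  rw [e]
  rfl

theorem μ_res {U V : T₀.Opens} (h : V ≤ U) (m : Γ(Omega.conormal i, U)) :
    μ i V ((Omega.conormal i).presheaf.map (homOfLE h).op m) = rres i h (μ i U m) := by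
  show incl i _ _ = (T.presheaf.map (homOfLE (img_mono i h)).op).hom (incl i _ _)
  rw [← incl_res]
  refine congrArg (incl i (img i V)) ?_
  exact (res_res _ h _ m).trans (res_res _ (preimage_img i U).le _ m).symm

theorem isIso_toImage : IsIso i.toImage := inferInstance

theorem red_μ (U : T₀.Opens) (m : Γ(Omega.conormal i, U)) : red i U (μ i U m) = 0 := by
  have h := (ClSub.Sections.mem_range_idealModι_app_iff i.ker (img i U) (μ i U m)).1
    ⟨(inv (unitHom i)).app _ ((Omega.conormal i).presheaf.map (homOfLE (preimage_img i U).le).op m), rfl⟩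
  have e : i.app (img i U) = (i.toImage ≫ i.imageι).app (img i U) ≫
      T₀.presheaf.map (eqToHom (by rw [Scheme.Hom.toImage_imageι])).op :=
    Scheme.Hom.congr_app i.toImage_imageι.symm _
  show (i.app (img i U) ≫ T₀.presheaf.map _).hom _ = 0
  rw [e, Scheme.Hom.comp_app]
  refine Eq.trans (congrArg (fun z => (T₀.presheaf.map _).hom ((T₀.presheaf.map _).hom ((i.toImage.app _).hom z)))
    h) ?_
  simp

set_option maxHeartbeats 800000 in
theorem exists_μ (U : T₀.Opens) (r : R i U) (h : red i U r = 0) : ∃ m, μ i U m = r := by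
  have h1 : i.app (img i U) r = 0 := by
    apply (ConcreteCategory.bijective_of_isIso
      (T₀.presheaf.map (eqToHom (preimage_img i U).symm).op)).1
    rw [map_zero, Subsingleton.elim (eqToHom (preimage_img i U).symm) (homOfLE (preimage_img i U).ge)]
    exact h
  have h2 : i.imageι.app (img i U) r = 0 := by
    haveI := isIso_toImage i
    rw [Scheme.Hom.congr_app i.toImage_imageι.symm (img i U), CommRingCat.comp_apply] at h1
    have h3 : (i.toImage ≫ i.imageι).app (img i U) r = 0 :=
      (ConcreteCategory.bijective_of_isIso (T₀.presheaf.map (eqToHom _).op)).1 (h1.trans (map_zero _).symm)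
    have h4 : i.toImage.app (i.imageι ⁻¹ᵁ img i U) (i.imageι.app (img i U) r) = 0 := h3
    exact (ConcreteCategory.bijective_of_isIso (i.toImage.app _)).1 (h4.trans (map_zero _).symm)
  obtain ⟨n, hn⟩ := (ClSub.Sections.mem_range_idealModι_app_iff i.ker (img i U) r).2 h2
  refine ⟨(Omega.conormal i).presheaf.map (homOfLE (preimage_img i U).ge).op ((unitHom i).app _ n), ?_⟩
  have e1 : (Omega.conormal i).presheaf.map (homOfLE (preimage_img i U).le).op
      ((Omega.conormal i).presheaf.map (homOfLE (preimage_img i U).ge).op ((unitHom i).app _ n)) =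
      (unitHom i).app (img i U) n := (res_res _ _ _ _).trans (res_self _ _ _)
  have e2 : (inv (unitHom i)).app (img i U) ((unitHom i).app (img i U) n) = n :=
    congr($(IsIso.hom_inv_id (unitHom i)).app (img i U) n)
  refine Eq.trans (congrArg (fun z => _root_.OmegaSh.idealSect i.ker (img i U) ((inv (unitHom i)).app (img i U) z)) e1) ?_
  refine Eq.trans (congrArg (_root_.OmegaSh.idealSect i.ker (img i U)) e2) ?_
  exact hn

theorem μ_mul_μ (U : T₀.Opens) (m m' : Γ(Omega.conormal i, U)) : μ i U m * μ i U m' = 0 := by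
  rw [← μ_smul, red_μ, zero_smul, map_zero]

end Groth.Agent.Lib.SqZeroLift.Thick
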