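import Groth.Agent.Lib.SqZeroLift.Lift
import Groth.Agent.Lib.RefHull.Colim

/-!
# Uniqueness of lifts when there are no homomorphisms from the pulled back differentials
-/

noncomputable section

universe u

open CategoryTheory CategoryTheory.Limits AlgebraicGeometry TopologicalSpace Opposite
open Groth.Agent.Lib.SqZeroLift.Thick Groth.Agent.Lib.SqZeroLift.DerHom Groth.Agent.Lib.SqZeroLift.Lift

namespace Groth.Agent.Lib.SqZeroLift.Unique

variable {Y S T₀ T : Scheme.{u}} {p : T ⟶ S} {q : Y ⟶ S} {i : T₀ ⟶ T} [hi : SqZero i] {g : T₀ ⟶ Y}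

omit hi in
/-- Derivations with zero section vanish. -/
theorem d_eq_zero_of_sec [QuasiSeparated q] {M : T₀.Modules} {W : T₀.Opens} {δ : DerOn q g M W}
    (h : secOf δ = 0) (V : Y.Opens) (a : Γ(Y, V)) : δ.d V a = 0 :=
  TopCat.Presheaf.section_ext (⟨M.presheaf, M.isSheaf⟩ : TopCat.Sheaf Ab T₀.toTopCat) _ _ _ fun z hz => by
    show M.presheaf.germ _ z hz (δ.d V a) = M.presheaf.germ _ z hz 0
    rw [← secOf_gen δ ⟨z, hz.2⟩ V hz.1 a, h, map_zero]
    rfl

omit hi in
theorem subsingleton_sec {F G : T₀.Modules} (h0 : Subsingleton (F ⟶ G)) :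
    Subsingleton Γ(RefHull.homSh F G, ⊤) := by
  refine ⟨fun s t => ?_⟩
  have e := h0.elim (Groth.Agent.Lib.RefHull.Colim.toHom s) (Groth.Agent.Lib.RefHull.Colim.toHom t)
  refine Subtype.ext (funext fun x => ?_)
  exact (Groth.Agent.Lib.RefHull.Colim.stalkMap_toHom s x.1).symm.trans
    ((congrArg (fun φ => RefHull.stalkMapₗ φ x.1) e).trans
      (Groth.Agent.Lib.RefHull.Colim.stalkMap_toHom t x.1))

/-- Two lifts agree if there are no homomorphisms `g^*Ω → J`. -/
theorem hom_eq [QuasiSeparated q] (hg : g ≫ q = i ≫ p)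
    (h0 : Subsingleton (gΩ q g ⟶ Omega.conormal i)) (h h' : T ⟶ Y)
    (hh : i ≫ h = g) (hh' : i ≫ h' = g) (hq : h ≫ q = p) (hq' : h' ≫ q = p) : h = h' := by
  refine Lift.hom_ext h h' hh hh' hq hq' fun V x => ?_
  have hd := d_eq_zero_of_sec (δ := diff hg (ofHom h hh hq) (ofHom h' hh' hq'))
    ((subsingleton_sec h0).elim _ _) V x
  have e := μ_diff hg (ofHom h hh hq) (ofHom h' hh' hq') V x
  rw [hd, map_zero] at e
  exact sub_eq_zero.1 e.symm

/-- The closed subscheme of a square zero ideal. -/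
theorem sqZero_subschemeι {X : Scheme.{u}} (J : X.IdealSheafData) (hJ : J ^ 2 = ⊥) : SqZero J.subschemeι where
  isClosedImmersion := inferInstance
  sq := by rw [Scheme.IdealSheafData.ker_subschemeι, ← pow_two, hJ]

omit hi in
theorem conormal_subschemeι {X : Scheme.{u}} (J : X.IdealSheafData) :
    Omega.conormal J.subschemeι = (Scheme.Modules.pullback J.subschemeι).obj (_root_.ClSub.idealMod J) := by
  rw [Omega.conormal, Scheme.IdealSheafData.ker_subschemeι]

end Groth.Agent.Lib.SqZeroLift.Unique
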